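import Cfsg.Agent.Lib.Helper16.McK.Defs
import Cfsg.Agent.Lib.Helper41.SL2Degree
import Cfsg.Agent.Lib.Helper41.Dicyclic
import Cfsg.Agent.Lib.Helper41.SylowTorus
import Cfsg.Agent.Lib.Helper62.SL2Norm
import Cfsg.Agent.Lib.Helper80.Core
import Cfsg.Agent.Lib.Helper76.ItoDeg
import Cfsg.Agent.Lib.Helper3.Table
import Cfsg.Agent.Lib.Helper78.DefectZero
import Cfsg.Agent.S2325
import Cfsg.Agent.S2428
import Cfsg.Agent.S2429
import Cfsg.Agent.S2430
import Cfsg.Agent.S2431
import Cfsg.Agent.S2437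
import Cfsg.Agent.Lib.Helper16.McK.LT

set_option autoImplicit false

namespace Cfsg.Agent.Lib.Helper16.McK

open Cfsg Cfsg.Agent.Lib.Helper41 Cfsg.Agent.Lib.Helper15 Cfsg.Agent.Lib.Helper74

local notation "SL2" F => Matrix.SpecialLinearGroup (Fin 2) F

variable {F : Type*} [Field F] [Fintype F]

/-- [Lm] COPY of the first half of the proof of `Cfsg.Agent.S2430.result`, with `conclude` replaced by LT and the
third conjunct of S2428 (`(q+5)/2` classes). -/
theorem local_minus (hodd : Odd (Fintype.card F)) (ℓ : ℕ) [Fact ℓ.Prime] (hℓ : ℓ ≠ 2)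
    (h : ℓ ∣ Fintype.card F - 1) (P : Sylow ℓ (SL2 F)) :
    mck (Subgroup.normalizer ((P : Subgroup (SL2 F)) : Set (SL2 F))) ℓ = (Fintype.card F + 5) / 2 := by
  have hdvd := h
  classical
  have hℓp : ℓ.Prime := Fact.out
  have hodd' : Fintype.card F % 2 = 1 := Nat.odd_iff.1 hodd
  have h2 : (2 : F) ≠ 0 := two_ne_zero_of_odd_card hodd'
  have hq1 : 1 < Fintype.card F := Fintype.one_lt_card
  have hG := Cfsg.Agent.Lib.Helper5.card_SL2 (F := F)
  have e1 : Fintype.card F ^ 2 - 1 = (Fintype.card F + 1) * (Fintype.card F - 1) := by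
    have := Nat.sq_sub_sq (Fintype.card F) 1
    simpa using this
  rw [e1] at hG
  have hℓ3 : 3 ≤ ℓ := by
    have := hℓp.two_le
    omega
  -- a unit of order ℓ
  obtain ⟨u, hu⟩ := exists_prime_orderOf_dvd_card' (G := Fˣ) ℓ (by
    rw [Nat.card_units, Nat.card_eq_fintype_card]; exact hdvd)
  have hu2 : (u : F) ^ 2 ≠ 1 := by
    intro h
    have h' : u ^ 2 = 1 := Units.ext (by simpa using h)
    have := Nat.le_of_dvd (by norm_num) (orderOf_dvd_of_pow_eq_one h')
    omega
  obtain ⟨hmem, hcardN, hkN, -⟩ := Cfsg.Agent.S2428.result hodd (Cfsg.Agent.S2428.dg u)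
    (by rw [Cfsg.Agent.S2428.dg_coe]; simp) (by rw [Cfsg.Agent.S2428.dg_coe]; simp)
    (by rw [Cfsg.Agent.S2428.dg_coe]; simpa using hu2)
  set T := Subgroup.centralizer ({Cfsg.Agent.S2428.dg u} : Set (Matrix.SpecialLinearGroup (Fin 2) F)) with hT
  -- the torus as the range of a homomorphism
  let φ : Fˣ →* Matrix.SpecialLinearGroup (Fin 2) F :=
    { toFun := Cfsg.Agent.S2428.dg
      map_one' := by
        apply Subtype.ext
        rw [Cfsg.Agent.S2428.dg_coe, Matrix.SpecialLinearGroup.coe_one]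
        ext i j
        fin_cases i <;> fin_cases j <;> simp
      map_mul' := by
        intro a b
        apply Subtype.ext
        rw [Matrix.SpecialLinearGroup.coe_mul, Cfsg.Agent.S2428.dg_coe, Cfsg.Agent.S2428.dg_coe,
          Cfsg.Agent.S2428.dg_coe, Matrix.mul_fin_two]
        ext i j
        fin_cases i <;> fin_cases j <;> simp [mul_comm] }
  have hφinj : Function.Injective φ := by
    intro a b h
    have h' := congrArg Subtype.val h
    have := congrFun (congrFun h' 0) 0
    exact Units.ext this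
  have hrange : φ.range = T := by
    ext g
    rw [hmem]
    constructor
    · rintro ⟨a, rfl⟩
      change ((Cfsg.Agent.S2428.dg a : Matrix (Fin 2) (Fin 2) F) 0 1 = 0 ∧ (Cfsg.Agent.S2428.dg a : Matrix (Fin 2) (Fin 2) F) 1 0 = 0)
      rw [Cfsg.Agent.S2428.dg_coe]; simp
    · rintro ⟨h1, h2⟩
      have hgdet := sl2_det g
      rw [h1, h2] at hgdet
      have hu : (g : Matrix (Fin 2) (Fin 2) F) 0 0 * (g : Matrix (Fin 2) (Fin 2) F) 1 1 = 1 := by
        linear_combination hgdet
      refine ⟨⟨(g : Matrix (Fin 2) (Fin 2) F) 0 0, (g : Matrix (Fin 2) (Fin 2) F) 1 1, hu, by rw [mul_comm]; exact hu⟩, ?_⟩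
      apply Subtype.ext
      change ((Cfsg.Agent.S2428.dg _ : Matrix.SpecialLinearGroup (Fin 2) F) : Matrix (Fin 2) (Fin 2) F) = _
      rw [Cfsg.Agent.S2428.dg_coe]
      ext i j
      fin_cases i <;> fin_cases j <;> simp [h1, h2]
  have hcardT : Nat.card T = Fintype.card F - 1 := by
    rw [← hrange, ← Nat.card_congr (MonoidHom.ofInjective hφinj).toEquiv, Nat.card_units,
      Nat.card_eq_fintype_card]
  have hcyc : IsCyclic T := by
    rw [← hrange]
    exact isCyclic_of_surjective (MonoidHom.ofInjective hφinj) (MonoidHom.ofInjective hφinj).surjective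
  apply mck_normalizer_of_torus T hcyc _ _ hcardT hcardN hkN ℓ hℓ hdvd
  · intro hi
    have h3 := Subgroup.card_mul_index T
    rw [hcardT, hG] at h3
    have h4 : T.index = Fintype.card F * (Fintype.card F + 1) := by
      apply Nat.eq_of_mul_eq_mul_left (show 0 < Fintype.card F - 1 by omega)
      rw [h3]; ring
    rw [h4] at hi
    rcases (Nat.Prime.dvd_mul hℓp).1 hi with h | h
    · have : ℓ ∣ 1 := by
        have h5 := (Nat.dvd_sub h hdvd)
        have h6 : Fintype.card F - (Fintype.card F - 1) = 1 := by omega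
        rwa [h6] at h5
      have := Nat.le_of_dvd (by norm_num) this
      omega
    · have : ℓ ∣ 2 := by
        have h5 := (Nat.dvd_sub h hdvd)
        have h6 : Fintype.card F + 1 - (Fintype.card F - 1) = 2 := by omega
        rwa [h6] at h5
      have := Nat.le_of_dvd (by norm_num) this
      omega
  · intro g hg hgg
    have hgs := (hmem g).1 hg
    ext k
    rw [hmem, Cfsg.Agent.S2428.mem_centralizer_diag g hgs.1 hgs.2]
    intro h
    apply hgg
    have hgdet := sl2_det g
    rw [hgs.1, hgs.2] at hgdet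
    have h11 : (g : Matrix (Fin 2) (Fin 2) F) 1 1 = (g : Matrix (Fin 2) (Fin 2) F) 0 0 := by
      have : (g : Matrix (Fin 2) (Fin 2) F) 1 1 = (g : Matrix (Fin 2) (Fin 2) F) 0 0 ^ 2 * (g : Matrix (Fin 2) (Fin 2) F) 1 1 := by
        rw [h, one_mul]
      rw [this]
      linear_combination (g : Matrix (Fin 2) (Fin 2) F) 0 0 * hgdet
    rw [sl2_eq_one_iff, Matrix.SpecialLinearGroup.coe_mul]
    ext i j
    fin_cases i <;> fin_cases j <;> simp [Matrix.mul_apply, Fin.sum_univ_two, hgs.1, hgs.2, h11, ← pow_two, h]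

end Cfsg.Agent.Lib.Helper16.McK
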